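import Cfsg.Agent.Omega.NO3S.SOne.KeyLe.Two
import Cfsg.Agent.Omega.NO3S.SOne.Inst

/-!
# GammaFF, (S1): the KEY with radicals, end: no exception (NS)

`Rad S`, `w : WSt S R F`, `P ∈ P**`, `V = X₀`, `E = EE V F`.

* `exists_front` : the front of the types `{P, R}`, the start chamber moved to `S`;
* **`false_of_two`** : `V_R / C` natural over a field with more than two elements ⟹ `|V : E| ≠ 2`;
* **`key_fnt`** : `Key V F B` over 894's front `Fnt S P P₁ V F n`.
-/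

set_option autoImplicit false
set_option linter.unusedSectionVars false

namespace Cfsg.Agent.Omega.NO3S.SOne.KeyLe

open Subgroup Cfsg Cfsg.Agent.ZN Cfsg.Agent.Omega.MinPar Cfsg.Agent.Omega.Frame
open Cfsg.Agent.Omega.FrameNOFF (CZ)
open Cfsg.Agent.Omega.NOne.Flat (EE NN conj_eq_of_norm conj_centralizer WW_conj EE_conj o2_conj)
open Cfsg.Agent.Omega.NOne.NearFF (c c_def)
open Cfsg.Agent.Omega.NoFF.Basic (conj_conj mem_conj conj_le_iff conj_le_centralizer comm_symm V_le Z_le_V Gal)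
open Cfsg.Agent.Omega.NOThreeL.Low.Key (BH)
open Cfsg.Agent.Omega.FFThm Cfsg.Agent.Omega.NatPair Cfsg.Agent.Lib.SL2Mat
open Cfsg.Agent.Omega.NO3S.KeyRad
open Cfsg.Agent.Omega.FrameFF (cv)
open Cfsg.Agent.Omega.NO3S.Pas (ChT GdT BBT FrT BLT bhT WFr Key)
open Cfsg.Agent.Omega.NO3S.Level (W0 WSt X0 M0 K0 M0_norm S_le_M0 par_le X0_comm X0_sq)
open Cfsg.Agent.Omega.NO3S.GFF.S1 (Rad)
open scoped Pointwise

universe u

variable {G : Type u} [Group G] [Finite G] {S : Sylow 2 G} {P R F : Subgroup G}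

/-- the first step of a gallery -/
theorem gal_head {𝒯 : Set (Subgroup G)} {n : ℕ} {a b : G} (h : Gal 𝒯 (n + 1) a b) :
    ∃ Q ∈ 𝒯, ∃ q ∈ Q, Gal 𝒯 n (a * q) b := by
  induction n generalizing b with
  | zero =>
    cases h with
    | @step _ _ g p Q hg hQ hp =>
      cases hg
      exact ⟨Q, hQ, p, hp, Gal.zero _⟩
  | succ n ih =>
    cases h with
    | @step _ _ g p Q hg hQ hp =>
      obtain ⟨Q', hQ', q, hq, h1⟩ := ih hg
      exact ⟨Q', hQ', q, hq, h1.step hQ hp⟩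

/-- `|V : E|` is invariant -/
theorem relIndex_conj {V : Subgroup G} {y : G} (hy : y ∈ normalizer (V : Set G)) :
    (EE V (MulAut.conj y • F)).relIndex V = (EE V F).relIndex V := by
  have e : EE V (MulAut.conj y • F) = MulAut.conj y • EE V F := (EE_conj hy).symm
  rw [e]
  conv_lhs => rw [← conj_eq_of_norm hy]
  rw [relIndex_pointwise_smul, conj_eq_of_norm hy]

/-- **The front** for the types `P`, `R`, from the chamber `S`. -/
theorem exists_front (h : Rad S) (w : WSt S R F) (hP : PSS (S : Subgroup G) P) :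
    ∃ y ∈ P ⊔ R, ∃ n, 1 ≤ n ∧ NOne.Flat.WW (X0 (S : Subgroup G)) (MulAut.conj y • F) ≤ (S : Subgroup G) ∧
      FrT {P, R} S (P ⊔ R) (X0 (S : Subgroup G)) (MulAut.conj y • F) n ∧
      ∃ g Q, Gal {P, R} n 1 g ∧ Q ∈ ({P, R} : Set (Subgroup G)) ∧
        ¬ MulAut.conj g • zl (S : Subgroup G) Q ≤ EE (X0 (S : Subgroup G)) (MulAut.conj y • F) := by
  classical
  set 𝒯 : Set (Subgroup G) := {P, R} with h𝒯
  have hMV := h.Y_le w hP
  have hTT : ∀ Q ∈ 𝒯, IsParS (S : Subgroup G) Q := by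
    rintro Q (rfl | rfl)
    · exact hP.par
    · exact w.par
  have hTM : ∀ Q ∈ 𝒯, Q ≤ P ⊔ R := by
    rintro Q (rfl | rfl)
    · exact le_sup_left
    · exact le_sup_right
  have hPT : P ∈ 𝒯 := Or.inl rfl
  have hgen : P ⊔ R ≤ sSup 𝒯 := sup_le (le_sSup hPT) (le_sSup (Or.inr rfl))
  have wf : WFr S (M0 (S : Subgroup G)) (X0 (S : Subgroup G)) F :=
    { hc := h.ctx.char2, noff := h.noFF, low := h.low, hyp := w.hyp
      PM := fun R hR => par_le hR, MV := M0_norm _, ZV := h.zc_le_X0, WS := w.WS }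
  have hYM : P ⊔ R ≤ M0 (S : Subgroup G) := sup_le (par_le hP.par) (par_le w.par)
  have hex : ∃ n : ℕ, ∃ g Q, ChT 𝒯 (P ⊔ R) (S : Subgroup G)
      (NOne.Flat.WW (X0 (S : Subgroup G)) F) n g ∧ Q ∈ 𝒯 ∧
      ¬ MulAut.conj g • zl (S : Subgroup G) Q ≤ EE (X0 (S : Subgroup G)) F := by
    by_contra hcon
    push Not at hcon
    apply h.not_le_EE w hP
    refine iSup_le fun y => ?_
    obtain ⟨k, hk⟩ := Pas.exists_galT (hgen y.2)
    have h1 := hcon k y P ⟨1, one_mem _, by rw [map_one, one_smul]; exact w.WS, hk⟩ hPT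
    exact (conj_le_iff.2 (MinSimple.VModule.zc_le_zl (S : Subgroup G) P)).trans h1
  obtain ⟨g, Q, hg, hQ, hgQ⟩ := Nat.find_spec hex
  have hmin := fun j (hj : j < Nat.find hex) => Nat.find_min hex hj
  set n := Nat.find hex with hn
  have hn1 : 1 ≤ n := by
    by_contra h0
    have h0 : n = 0 := by omega
    rw [h0] at hg
    have hgM := hg.mem hTM
    exact hgQ (wf.good (hYM hgM) hg.zero_le (hTT Q hQ))
  have fr : FrT 𝒯 S (P ⊔ R) (X0 (S : Subgroup G)) F n := by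
    refine ⟨h.ctx.char2, h.noFF, w.hyp, hTT, hTM, hMV, h.zc_le_X0, ?_, ?_⟩
    · intro j hj x hx Q hQ
      by_contra hcon
      exact hmin j hj ⟨x, Q, hx, hQ, hcon⟩
    · refine ChT.mono (Nat.zero_le n) ⟨P, hPT⟩ ?_
      exact ⟨1, one_mem _, by rw [map_one, one_smul]; exact w.WS, Gal.zero _⟩
  obtain ⟨a, ha, haW, hag⟩ := hg
  have haV : a⁻¹ ∈ normalizer (X0 (S : Subgroup G) : Set G) := hMV (inv_mem ha)
  have hW : NOne.Flat.WW (X0 (S : Subgroup G)) (MulAut.conj a⁻¹ • F) ≤ (S : Subgroup G) := by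
    have e : NOne.Flat.WW (X0 (S : Subgroup G)) (MulAut.conj a⁻¹ • F) =
      MulAut.conj a⁻¹ • NOne.Flat.WW (X0 (S : Subgroup G)) F := (WW_conj haV).symm
    rw [e]
    exact le_conj_iff.1 haW
  refine ⟨a⁻¹, inv_mem ha, n, hn1, hW, frT_conj fr (inv_mem ha) hW ⟨P, hPT⟩, a⁻¹ * g, Q, ?_, hQ, ?_⟩
  · have h1 := hag.mul_left a⁻¹
    rwa [inv_mul_cancel] at h1
  · intro h1
    apply hgQ
    have e : EE (X0 (S : Subgroup G)) (MulAut.conj a⁻¹ • F) = MulAut.conj a⁻¹ • EE (X0 (S : Subgroup G)) F :=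
      (EE_conj haV).symm
    rw [e, ← conj_conj] at h1
    exact conj_le_iff.1 h1

/-- **No (NS).** -/
theorem false_of_two (h : Rad S) (w : WSt S R F) (hP : PSS (S : Subgroup G) P) {K : Type} [Field K] [Finite K]
    [CharP K 2] {k : ℕ} (M : NatKM K (S : Subgroup G) R (zl (S : Subgroup G) R) (cv (S : Subgroup G) R) k)
    (hK : 2 < Nat.card K) (ha : (EE (X0 (S : Subgroup G)) F).relIndex (X0 (S : Subgroup G)) = 2) : False := by
  classical
  obtain ⟨y, hy, n, hn, hWS, fr, g, Q, hgal, hQ, hbad⟩ := exists_front h w hP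
  have hMV := h.Y_le w hP
  have hyV := hMV hy
  set V := X0 (S : Subgroup G) with hV
  set F₁ := MulAut.conj y • F with hF₁
  have ha₁ : (EE V F₁).relIndex V = 2 := by rw [hF₁, relIndex_conj hyV, ha]
  have hyp₁ : NOne.Flat.Hyp V F₁ := w.hyp.conj hyV
  have nb := ThmB.Inst.nb h.ctx.char2 w.par M
  have hPT : P ∈ ({P, R} : Set (Subgroup G)) := Or.inl rfl
  have hRT : R ∈ ({P, R} : Set (Subgroup G)) := Or.inr rfl
  -- passivity
  have pas : ∀ y' ∈ P ⊔ R, MulAut.conj y' • NOne.Flat.WW V F₁ ≤ (S : Subgroup G) →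
      MulAut.conj y' • NOne.Flat.WW V F₁ ≤ o2 P := by
    intro y' hy' h1
    have h2 := hMV hy'
    have e : NOne.Flat.WW V (MulAut.conj y' • F₁) = MulAut.conj y' • NOne.Flat.WW V F₁ := (WW_conj h2).symm
    rw [← e] at h1 ⊢
    exact h.pas hP (hyp₁.conj h2) h1
  have hWP : NOne.Flat.WW V F₁ ≤ o2 P := h.pas hP hyp₁ hWS
  -- lines at distance 0
  have good0 : ∀ y' ∈ P ⊔ R, NOne.Flat.WW V F₁ ≤ MulAut.conj y' • (S : Subgroup G) → ∀ Q' ∈ ({P, R} : Set (Subgroup G)),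
      MulAut.conj y' • zl (S : Subgroup G) Q' ≤ EE V F₁ := fun y' hy' hW Q' hQ' =>
    fr.least 0 hn y' ⟨y', hy', hW, Gal.zero _⟩ Q' hQ'
  have hch : ∀ {j : ℕ} {x : G}, Gal {P, R} j 1 x → ChT {P, R} (P ⊔ R) (S : Subgroup G) (NOne.Flat.WW V F₁) j x :=
    fun hx => ⟨1, one_mem _, by rw [map_one, one_smul]; exact hWS, hx⟩
  -- chambers of `Δ`
  have hDP : ∀ p ∈ P, NOne.Flat.WW V F₁ ≤ MulAut.conj p • (S : Subgroup G) := by
    intro p hp
    rw [le_conj_iff]
    have h1 := conj_le_iff (g := p⁻¹).2 hWP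
    rw [conj_eq_of_norm (MinSimple.VModule.le_normalizer_o2 P (inv_mem hp))] at h1
    exact h1.trans (hP.par.isLoc.o2_le S)
  -- `R` is active
  have act : ¬ NOne.Flat.WW V F₁ ≤ o2 R := by
    intro hWR
    obtain ⟨m, rfl⟩ : ∃ m, n = m + 1 := ⟨n - 1, by omega⟩
    obtain ⟨Q', hQ', q, hq, h1⟩ := gal_head hgal
    rw [one_mul] at h1
    have h2 : NOne.Flat.WW V F₁ ≤ MulAut.conj q • (S : Subgroup G) := by
      rcases hQ' with rfl | rfl
      · exact hDP q hq
      · rw [le_conj_iff]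
        have h1 := conj_le_iff (g := q⁻¹).2 hWR
        rw [conj_eq_of_norm (MinSimple.VModule.le_normalizer_o2 _ (inv_mem hq))] at h1
        exact h1.trans (w.par.isLoc.o2_le S)
    exact hbad (fr.least m (Nat.lt_succ_self m) g ⟨q, fr.PM Q' hQ' hq, h2, h1⟩ Q hQ)
  have w₁ : WSt S R F₁ := { toW0 := h.toW0, par := w.par, hyp := hyp₁, WS := hWS, mv := act }
  have kf : KF S P R V F₁ :=
    { hc := h.ctx.char2, hyp := hyp₁, hP := hP.par, hR := w.par, PV := le_sup_left.trans hMV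
      RV := le_sup_right.trans hMV, ZV := h.zc_le_X0, WS := hWS, pas := pas, act := act }
  -- the group `B`
  have bh := bhT fr
  have hLE : zl (S : Subgroup G) R ≤ EE V F₁ := by
    have h3 := good0 1 (one_mem _) (by rw [map_one, one_smul]; exact hWS) R hRT
    rwa [map_one, one_smul] at h3
  have hmv : ¬ NOne.Flat.WW V F₁ ≤ centralizer (zl (S : Subgroup G) R : Set G) := fun h3 => act (by
    rw [← kf.o2R_eq]; exact le_inf hWS h3)
  have hoff := offM_of_le hyp₁ hLE hmv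
  have inI : ∀ {j : ℕ}, j ≤ n → ∀ {x : G}, ChT {P, R} (P ⊔ R) (S : Subgroup G) (NOne.Flat.WW V F₁) j x →
      ∀ {Q'}, Q' ∈ ({P, R} : Set (Subgroup G)) → MulAut.conj x • zl (S : Subgroup G) Q' ≤ EE V F₁ →
      MulAut.conj x • zl (S : Subgroup G) Q' ≤ V ⊓ BLT {P, R} (P ⊔ R) (S : Subgroup G) V F₁ n := by
    intro j hj x hx Q' hQ' hE
    exact le_inf (fr.line_le_V (fr.mem_M hx) hQ') ((FrT.le_BB' (FrT.mem_Gd hj hx hQ' hE)).trans le_sup_left)
  have hL : zl (S : Subgroup G) R ≤ V ⊓ BLT {P, R} (P ⊔ R) (S : Subgroup G) V F₁ n := by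
    have h3 := inI (Nat.zero_le n) (hch (Gal.zero 1)) hRT (by rw [map_one, one_smul]; exact hLE)
    rwa [map_one, one_smul] at h3
  have hLF : ¬ zl (S : Subgroup G) R ≤ F₁ := by
    intro h1
    apply hmv
    intro s hs
    rw [mem_centralizer_iff]
    exact fun l hl => NOne.Flat.Hyp.F_comm (h1 hl) (NOne.Flat.Hyp.W_le_X hs)
  have hI : ¬ V ⊓ BLT {P, R} (P ⊔ R) (S : Subgroup G) V F₁ n ≤ F₁ := fun h1 => hLF (hL.trans h1)
  have hgM := fr.mem_M (hch hgal)
  have hgV := hMV hgM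
  have hBS := Pas.BL_le_conjT fr le_rfl (hch hgal)
  have hQp := fr.TT Q hQ
  have hT := concl_conj FF.Glob.ffthmM h.ctx.char2 hQp (h.low Q hQp) bh hgV hI hBS (fr.line_le_V hgM hQ) hbad
  have hmain := main_conj h.ctx.char2 hQp hT bh fr.sup_sq hgV hBS (fr.line_le_V hgM hQ) hbad
  have hi4 : F₁.relIndex (V ⊓ BLT {P, R} (P ⊔ R) (S : Subgroup G) V F₁ n) ≤ 4 := by
    rcases hmain with h1 | h1 | ⟨h1, -, -⟩
    · rw [ha₁] at h1; omega
    · rw [ha₁] at h1; omega
    · exact h1.le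
  obtain ⟨hK4, hL4, hLF', j0, hj1, hj2⟩ := ns bh nb hK hL hi4 hWS hoff
  have hi : 2 < F₁.relIndex (V ⊓ BLT {P, R} (P ⊔ R) (S : Subgroup G) V F₁ n) := by
    have h1 : F₁.relIndex (zl (S : Subgroup G) R) ≤ F₁.relIndex (V ⊓ BLT {P, R} (P ⊔ R) (S : Subgroup G) V F₁ n) :=
      relIndex_le_of_le_right hL index_ne_zero_of_finite
    omega
  -- the bad line is of type `R`
  have hQR : Q = R := by
    rcases hQ with rfl | rfl
    · exfalso
      have hcv : cv (S : Subgroup G) Q = ⊥ := (h.toHypC.hypN hP.par hP.nonLoc).toHyp.cv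
      have h1 := le_of_cv h.ctx.char2 hQp (by
        unfold ConclM at hT
        rw [hcv] at hT
        exact hT) bh fr.sup_sq hgV hBS (fr.line_le_V hgM hPT) hbad
      rw [ha₁] at h1
      omega
    · rfl
  subst hQR
  -- the last step
  obtain ⟨m, rfl⟩ : ∃ m, n = m + 1 := ⟨n - 1, by omega⟩
  obtain ⟨Q', p, g', hg', hQ', hp, rfl⟩ : ∃ Q' p g', Gal {P, Q} m 1 g' ∧ Q' ∈ ({P, Q} : Set (Subgroup G)) ∧ p ∈ Q' ∧
      g = g' * p := by
    cases hgal with
    | @step _ _ g' p Q' hg' hQ' hp => exact ⟨Q', p, g', hg', hQ', hp, rfl⟩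
  have hpP : p ∈ P := by
    rcases hQ' with rfl | rfl
    · exact hp
    · exfalso
      apply hbad
      rw [← conj_conj, conj_eq_of_norm (MinSimple.VModule.le_normalizer_zl _ _ hp)]
      exact fr.least m (Nat.lt_succ_self m) g' (hch hg') _ hRT
  -- chambers `x ∈ P` are at distance `0`
  have hPbad : ∀ x ∈ P, MulAut.conj x • zl (S : Subgroup G) Q ≤ EE V F₁ := fun x hx =>
    good0 x ((le_sup_left : P ≤ P ⊔ Q) hx) (hDP x hx) Q hRT
  rcases m with - | m
  · cases hg'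
    rw [one_mul] at hbad
    exact hbad (hPbad p hpP)
  rcases m with - | m
  · -- distance 2
    obtain ⟨Q₂, hQ₂, r, hr, h1⟩ := gal_head hg'
    cases h1
    rw [one_mul] at hbad hBS
    rcases hQ₂ with rfl | rfl
    · exact hbad (hPbad _ (mul_mem hr hpP))
    · refine kf.false_near M (by rw [ha₁]; exact hK) bh fr.sup_sq hLF' hi hj1 hj2
        (fun y' hy' hW => good0 y' hy' hW _ hRT) (fun x hx => ?_) hr hpP hBS hbad (h.rad _ F₁ w₁)
      have h1 : Gal {P, Q₂} 1 1 x := by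
        have h2 := Gal.one (F := {P, Q₂}) hRT (g := 1) hx
        rwa [one_mul] at h2
      exact inI (by omega) (hch h1) hPT (fr.least 1 (by omega) x (hch h1) P hPT)
  · -- distance at least 3
    refine h.not_le_EE w₁ hP (kf.false_far hLF' (fun r hr p hp => ?_) hPbad)
    have h1 : Gal {P, Q} 2 1 (r * p) := by
      have h2 := (Gal.one (F := {P, Q}) hRT (g := 1) hr).step hPT hp
      rwa [one_mul] at h2
    exact inI (by omega) (hch h1) hRT (fr.least 2 (by omega) _ (hch h1) Q hRT)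

/-- **The KEY over the front of (S1).** -/
theorem key_fnt (h : Rad S) (w : WSt S R F) (hP : PSS (S : Subgroup G) P) {n : ℕ}
    (f : Fnt S P R (X0 (S : Subgroup G)) F n) {g : G} {Q : Subgroup G}
    (hg : ChT (TT (S : Subgroup G) P R) (P ⊔ R) (S : Subgroup G) (NOne.Flat.WW (X0 (S : Subgroup G)) F) n g)
    (hQ : Q ∈ TT (S : Subgroup G) P R) (hbad : ¬ MulAut.conj g • zl (S : Subgroup G) Q ≤ EE (X0 (S : Subgroup G)) F) :
    Key (X0 (S : Subgroup G)) F (BF (TT (S : Subgroup G) P R) (P ⊔ R) (S : Subgroup G) (X0 (S : Subgroup G)) n F) := by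
  have hgM := f.fr.mem_M hg
  have hgV := f.norm hgM
  have hQp := f.fr.TT Q hQ
  have hBS := Pas.BL_le_conjT f.fr le_rfl hg
  have hmv : ¬ NOne.Flat.WW (X0 (S : Subgroup G)) F ≤ centralizer (zl (S : Subgroup G) R : Set G) := fun h3 => w.mv (by
    rw [← IsParS.inf_centralizer S h.ctx.char2 w.par]; exact le_inf w.WS h3)
  have hI : ¬ X0 (S : Subgroup G) ⊓ BF (TT (S : Subgroup G) P R) (P ⊔ R) (S : Subgroup G) (X0 (S : Subgroup G)) n F ≤ F := by
    intro h1
    apply hmv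
    intro s hs
    rw [mem_centralizer_iff]
    exact fun l hl => NOne.Flat.Hyp.F_comm (h1 (f.zl_le_I P₁_mem_TT hl)) (NOne.Flat.Hyp.W_le_X hs)
  rcases key_or FF.Glob.ffthmM h.ctx.char2 hQp (h.low Q hQp) f.bh f.fr.sup_sq hgV hI hBS (f.fr.line_le_V hgM hQ) hbad with
    h1 | ⟨-, h2, h3, h4⟩
  · exact h1
  · exfalso
    rcases hQ with rfl | ⟨v, hv, rfl⟩
    · exact h4 (h.toHypC.hypN hP.par hP.nonLoc).toHyp.cv
    · obtain ⟨K, fK, fiK, cK, k, -, hK, ⟨M⟩⟩ := h3
      have hvV : v ∈ normalizer (X0 (S : Subgroup G) : Set G) := f.norm ((le_sup_left : P ≤ P ⊔ R) hv.1)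
      have eW : NOne.Flat.WW (X0 (S : Subgroup G)) (MulAut.conj v • F) =
        MulAut.conj v • NOne.Flat.WW (X0 (S : Subgroup G)) F := (WW_conj hvV).symm
      have w' : WSt S (MulAut.conj v • R) (MulAut.conj v • F) :=
        { toW0 := h.toW0, par := hQp, hyp := w.hyp.conj hvV
          WS := by
            rw [eW]
            have h5 := conj_le_iff (g := v).2 w.WS
            rwa [conj_eq_of_norm hv.2] at h5
          mv := by
            rw [eW, ← o2_conj]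
            exact fun h5 => w.mv (conj_le_iff.1 h5) }
      exact false_of_two h w' hP M hK (by rw [relIndex_conj hvV, h2])

end Cfsg.Agent.Omega.NO3S.SOne.KeyLe
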