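import Cfsg.Agent.Omega.NO3S.KeyRad.Act
import Cfsg.Agent.Omega.NO3S.SOne.KA

/-!
# GammaFF, (S1): the KEY with radicals, part 2: elements of natural modules

`M : NatKM K S P U D k`, `h : Nb M` (`D` the radical, `U / D` a sum of natural modules).

* `comm_of_fix` : a single factor `s` with `[U, s, s] = 1` which fixes the coordinate of `l ∈ U` centralises `l`;
* `cent_of_off` : an offender `A ≤ S` with `[U, A, A] = 1` centralises the elements `(ξ, 0)` of one block;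
* `conj_sg'` : the block of a conjugate;
* `exists_mem_inf` : `|V : E| < |K|` ⟹ some `w ∈ [U, L_i] ∩ E` has `(w i) 1 ≠ 0`;
* `lift_of_fixed` : if `1 ≠ x ∈ [U, W^r]`, `r ∈ P`, is centralised by `W^r` and by all `W^t`, `t ∈ S`, then `W^r` acts on `U`
  as elements of `⋃ W^t`.
-/

set_option autoImplicit false
set_option linter.unusedSectionVars false

namespace Cfsg.Agent.Omega.NO3S.SOne.KeyLe

open Subgroup Cfsg Cfsg.Agent.ZN Cfsg.Agent.ZN.ChoiceBase
open Cfsg.Agent.Omega.FFThm Cfsg.Agent.Omega.NatPair Cfsg.Agent.Lib.SL2Mat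
open Cfsg.Agent.Omega.NO3S.ThmB Cfsg.Agent.Omega.NO3S.KeyRad
open Cfsg.Agent.Omega.NoFF.Basic (conj_conj mem_conj conj_le_iff)
open scoped Pointwise

universe u

section mat

variable {K : Type} [Field K] [CharP K 2]

theorem add2 (x : Fin 2 → K) : x + x = 0 := by
  funext i
  exact CharTwo.add_self_eq_zero _

theorem eq_of_add2 {x y : Fin 2 → K} (h : x + y = 0) : x = y := by
  funext i
  exact CharTwo.add_eq_zero.1 (congrFun h i)

/-- two fixed vectors of `A ≠ 1` are proportional -/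
theorem exists_smul {A : Matrix.SpecialLinearGroup (Fin 2) K} (hA : A ≠ 1) {x y : Fin 2 → K} (hx : ap A x = x)
    (hy : ap A y = y) (hy0 : y ≠ 0) : ∃ c : K, x = c • y := by
  by_cases hd : x 0 * y 1 + x 1 * y 0 = 0
  · by_cases h0 : y 0 = 0
    · have h1 : y 1 ≠ 0 := fun h1 => hy0 (ext2 h0 h1)
      refine ⟨x 1 / y 1, ext2 ?_ ?_⟩
      · rw [h0, mul_zero, add_zero] at hd
        rw [Pi.smul_apply, smul_eq_mul, h0, mul_zero]
        exact (mul_eq_zero.1 hd).resolve_right h1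
      · rw [Pi.smul_apply, smul_eq_mul, div_mul_cancel₀ _ h1]
    · refine ⟨x 0 / y 0, ext2 ?_ ?_⟩
      · rw [Pi.smul_apply, smul_eq_mul, div_mul_cancel₀ _ h0]
      · rw [Pi.smul_apply, smul_eq_mul, div_mul_eq_mul_div, eq_div_iff h0]
        exact (CharTwo.add_eq_zero.1 hd).symm
  · exfalso
    apply hA
    apply ap_inj
    intro z
    set d := x 0 * y 1 + x 1 * y 0 with hdd
    have e : z = ((z 0 * y 1 + z 1 * y 0) / d) • x + ((x 0 * z 1 + x 1 * z 0) / d) • y := by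
      refine ext2 ?_ ?_
      · rw [Pi.add_apply, Pi.smul_apply, Pi.smul_apply, smul_eq_mul, smul_eq_mul, div_mul_eq_mul_div,
          div_mul_eq_mul_div, ← add_div, eq_div_iff hd, hdd]
        have h2 : (2 : K) = 0 := CharTwo.two_eq_zero
        linear_combination (-(z 1 * y 0 * x 0)) * h2
      · rw [Pi.add_apply, Pi.smul_apply, Pi.smul_apply, smul_eq_mul, smul_eq_mul, div_mul_eq_mul_div,
          div_mul_eq_mul_div, ← add_div, eq_div_iff hd, hdd]
        have h2 : (2 : K) = 0 := CharTwo.two_eq_zero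
        linear_combination (-(z 0 * y 1 * x 1)) * h2
    rw [NatPair.ap_one]
    conv_lhs => rw [e]
    rw [ap_add, ap_smul, ap_smul, hx, hy, ← e]

/-- a matrix fixing `(ξ, 0)`, `ξ ≠ 0`, is upper unitriangular -/
theorem exists_up_of_fix {A : Matrix.SpecialLinearGroup (Fin 2) K} {x : Fin 2 → K} (hx : ap A x = x) (h0 : x 0 ≠ 0)
    (h1 : x 1 = 0) : ∃ b : K, A = up b := by
  have e0 := congrFun hx 0
  have e1 := congrFun hx 1
  rw [ap_zero', h1, mul_zero, add_zero] at e0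
  rw [ap_one', h1, mul_zero, add_zero] at e1
  have a00 : ent A 0 0 = 1 := mul_right_cancel₀ h0 (by rw [e0, one_mul])
  have a10 : ent A 1 0 = 0 := (mul_eq_zero.1 e1).resolve_right h0
  have hdet := A.2
  rw [Matrix.det_fin_two] at hdet
  have a11 : ent A 1 1 = 1 := by
    have h2 : ent A 0 0 * ent A 1 1 - ent A 0 1 * ent A 1 0 = 1 := hdet
    rwa [a00, a10, one_mul, mul_zero, sub_zero] at h2
  refine ⟨ent A 0 1, ap_inj fun z => ext2 ?_ ?_⟩
  · rw [ap_zero', ap_up_0, a00, one_mul]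
  · rw [ap_one', ap_up_1, a10, a11, zero_mul, zero_add, one_mul]

end mat

variable {G : Type u} [Group G] [Finite G] {K : Type} [Field K] [Finite K] [CharP K 2] {S P U D : Subgroup G} {k : ℕ}
  {M : NatKM K S P U D k} (h : Nb M)
include h

/-- coordinates of `s v s⁻¹ v⁻¹` -/
theorem e_comm {s v : G} (hs : s ∈ P) {A : Fin k → Matrix.SpecialLinearGroup (Fin 2) K} (hA : ActsSL M.e U D s A)
    (hv : v ∈ U) (i : Fin k) : M.e (s * v * s⁻¹ * v⁻¹) i = ap (A i) (M.e v i) + M.e v i := by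
  rw [h.e_div (h.memV hs hv) hv, Pi.add_apply, hA.1 v hv i]

/-- **a single factor which fixes the coordinate of `l` centralises `l`** -/
theorem comm_of_fix {s : G} (hs : s ∈ P) {j : Fin k} {A : Matrix.SpecialLinearGroup (Fin 2) K}
    (hA : ActsSL M.e U D s (sg j A))
    (hq : ∀ v ∈ U, s * (s * v * s⁻¹ * v⁻¹) = s * v * s⁻¹ * v⁻¹ * s) {l : G} (hl : l ∈ U)
    (hf : ap A (M.e l j) = M.e l j) : s * l = l * s := by
  by_cases hA1 : A = 1
  · rw [hA1, sg_one] at hA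
    exact h.comm_of_one hs hA hl
  obtain ⟨y0, hy0⟩ : ∃ y0, ap A y0 ≠ y0 := by
    by_contra hcon
    push Not at hcon
    exact hA1 (ap_inj fun x => by rw [hcon x, NatPair.ap_one])
  have hz0 : ap A y0 + y0 ≠ 0 := fun h1 => hy0 (eq_of_add2 h1)
  have hcomm : ∀ v ∈ U, s * v * s⁻¹ * v⁻¹ ∈ U := fun v hv => mul_mem (h.memV hs hv) (inv_mem hv)
  -- `A` fixes `ap A y0 + y0`
  have hfz : ap A (ap A y0 + y0) = ap A y0 + y0 := by
    obtain ⟨v, hv, hvj, -⟩ := Nb.exists_single M j y0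
    have h1 := hq v hv
    have h2 : s * (s * v * s⁻¹ * v⁻¹) * s⁻¹ = s * v * s⁻¹ * v⁻¹ := by rw [h1, mul_inv_cancel_right]
    have h3 := hA.1 _ (hcomm v hv) j
    rw [h2, e_comm h hs hA hv, sg_self, hvj] at h3
    exact h3.symm
  obtain ⟨c, hc⟩ := exists_smul hA1 hf hfz hz0
  obtain ⟨v, hv, hvj, -⟩ := Nb.exists_single M j (c • y0)
  have h1 : M.e (s * v * s⁻¹ * v⁻¹) j = M.e l j := by
    rw [e_comm h hs hA hv, sg_self, hvj, hc, ap_smul, smul_add]
  have h2 : M.e (l * (s * v * s⁻¹ * v⁻¹)⁻¹) j = 0 := by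
    rw [h.e_div hl (hcomm v hv), Pi.add_apply, h1]
    exact add2 _
  have h3 := cent_sg h hs hA (mul_mem hl (inv_mem (hcomm v hv))) h2
  have h4 := (show Commute s _ from h3).mul_right (show Commute s _ from hq v hv)
  rwa [inv_mul_cancel_right] at h4

/-- **an offender centralises the elements `(ξ, 0)` of one block** -/
theorem cent_of_off {A : Subgroup G} (hA : A ≤ S) (hoff : OffM U A)
    (hq : ∀ v ∈ U, ∀ a ∈ A, ∀ a' ∈ A, a' * (a * v * a⁻¹ * v⁻¹) = a * v * a⁻¹ * v⁻¹ * a') {x : G} (hx : x ∈ U)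
    {i : Fin k} (hxi : M.e x i 1 = 0) (hxl : ∀ l, l ≠ i → M.e x l = 0) {a : G} (ha : a ∈ A) : a * x = x * a := by
  classical
  obtain ⟨I, -, h1, h2⟩ := exists_blocks h hA hoff
  obtain ⟨b, hb, hab⟩ := h1 a ha
  have haP : a ∈ P := h.SP' (hA ha)
  by_cases hi : i ∈ I
  · obtain ⟨a', ha', haA'⟩ := h2 (Function.update 0 i 1) (fun l hl => by
      rw [Function.update_of_ne (fun h3 => hl (by rw [h3]; exact hi))]; rfl)
    have haP' : a' ∈ P := h.SP' (hA ha')
    obtain ⟨v, hv, hvi, hvl⟩ := Nb.exists_single M i ![0, M.e x i 0]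
    have hy := mul_mem (h.memV haP' hv) (inv_mem hv)
    have hd : x * (a' * v * a'⁻¹ * v⁻¹)⁻¹ ∈ D := by
      rw [h.mem_D hx hy]
      funext l
      rw [e_comm h haP' haA' hv]
      by_cases hli : l = i
      · rw [hli, hvi]
        refine vec_eq ?_ ?_
        · rw [Pi.add_apply, ap_up_0, Function.update_self]
          simp
        · rw [Pi.add_apply, ap_up_1, hxi]
          exact (CharTwo.add_self_eq_zero _).symm
      · rw [hvl l hli, hxl l hli, ap_zr, add_zero]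
    have h3 : Commute a (x * (a' * v * a'⁻¹ * v⁻¹)⁻¹) := hab.2 _ hd
    have h4 : Commute a (a' * v * a'⁻¹ * v⁻¹) := hq v hv a' ha' a ha
    have h5 := h3.mul_right h4
    rwa [inv_mul_cancel_right] at h5
  · refine cent_off h haP hab hx fun l hl => hxl l fun hli => hl ?_
    rw [hli, hb i hi, up_zero]

/-- the block of a conjugate of a single factor -/
theorem conj_sg' {j : Fin k} {g c : G} {σ : Equiv.Perm (Fin k)} (hσ : Mv M g σ) (hg : g ∈ P) (hc : c ∈ P)
    {A : Matrix.SpecialLinearGroup (Fin 2) K} (hA : ActsSL M.e U D c (sg j A)) :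
    ∃ A', ActsSL M.e U D (g * c * g⁻¹) (sg (σ j) A') := by
  obtain ⟨B, hB⟩ := M.norm g hg c hc _ hA.1
  have hB1 : ∀ l, l ≠ σ j → B l = 1 := by
    intro l hl
    apply ap_inj
    intro x
    obtain ⟨v, hv, hvl, -⟩ := Nb.exists_single M l x
    have hu : g⁻¹ * v * g ∈ U := by
      have := h.memV (inv_mem hg) hv
      rwa [inv_inv] at this
    have m := mem_blk hc hA hu
    have e1 : g * c * g⁻¹ * v * (g * c * g⁻¹)⁻¹ =
        g * (c * (g⁻¹ * v * g) * c⁻¹ * (g⁻¹ * v * g)⁻¹ * (g⁻¹ * v * g)) * g⁻¹ := by group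
    have e2 : g * (g⁻¹ * v * g) * g⁻¹ = v := by group
    have h1 := hB v hv l
    rw [e1, e_conj_mul h hg (blk_le h j m) hu, Pi.add_apply, e2, hvl] at h1
    have h5 := hσ _ (blk_le h j m) (σ.symm l)
    rw [σ.apply_symm_apply] at h5
    rw [h5.2 (e_blk h (fun h6 => hl (by rw [← h6, σ.apply_symm_apply])) m), zero_add] at h1
    rw [← h1, NatPair.ap_one]
  refine ⟨B (σ j), ?_⟩
  rw [← eq_sg hB1]
  refine ⟨hB, fun d hd => ?_⟩
  have hd' : g⁻¹ * d * g ∈ D := by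
    have := conj_mem h.DP' (inv_mem hg) hd
    rwa [inv_inv] at this
  have h5 := hA.2 _ hd'
  calc g * c * g⁻¹ * d = g * (c * (g⁻¹ * d * g)) * g⁻¹ := by group
    _ = g * (g⁻¹ * d * g * c) * g⁻¹ := by rw [h5]
    _ = d * (g * c * g⁻¹) := by group

/-- `|V : E| < |K|` -/
theorem exists_mem_inf {V E : Subgroup G} (hUV : U ≤ V) (hlt : E.relIndex V < Nat.card K) (i : Fin k) :
    ∃ w ∈ blk M i, w ∈ E ∧ M.e w i 1 ≠ 0 := by
  classical
  by_contra hcon
  push Not at hcon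
  have hX := blk_le h i
  have h1 : E.relIndex (blk M i) ≤ E.relIndex V :=
    relIndex_le_of_le_right (hX.trans hUV) index_ne_zero_of_finite
  refine absurd (le_trans ?_ h1) (not_le.2 hlt)
  rw [relIndex, index_eq_card]
  choose v hv hve using fun x : K => exists_blk_e h i ![0, x]
  refine Nat.card_le_card_of_injective
    (fun x : K => (QuotientGroup.mk (⟨v x, hv x⟩ : blk M i) : blk M i ⧸ E.subgroupOf (blk M i))) ?_
  intro x y hxy
  have h2 : (v x)⁻¹ * v y ∈ E := by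
    have h4 : (QuotientGroup.mk (⟨v x, hv x⟩ : blk M i) : blk M i ⧸ E.subgroupOf (blk M i)) =
      QuotientGroup.mk ⟨v y, hv y⟩ := hxy
    rw [QuotientGroup.eq, mem_subgroupOf] at h4
    exact h4
  have h3 := hcon _ (mul_mem (inv_mem (hv x)) (hv y)) h2
  rw [M.mul _ (inv_mem (hX (hv x))) _ (hX (hv y)), h.e_inv (hX (hv x)), Pi.add_apply, Pi.add_apply, hve, hve] at h3
  simp only [Matrix.cons_val_one, Matrix.cons_val_fin_one] at h3
  exact CharTwo.add_eq_zero.1 h3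

/-- `ActsSL` determines the family -/
theorem acts_inj {g : G} {A B : Fin k → Matrix.SpecialLinearGroup (Fin 2) K} (hA : ActsSL M.e U D g A)
    (hB : ActsSL M.e U D g B) : A = B := by
  funext i
  refine ap_inj fun x => ?_
  obtain ⟨v, hv, hvi, -⟩ := Nb.exists_single M i x
  rw [← hvi, ← hA.1 v hv i, hB.1 v hv i]

/-- **`W^r` acts as elements of `⋃ W^t`, `t ∈ S`.** -/
theorem lift_of_fixed {W : Subgroup G} (hWS : W ≤ S) (hoff : OffM U W) {j0 : Fin k}
    (h1 : ∀ a ∈ W, ∃ b : K, ActsSL M.e U D a (sg j0 (up b)))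
    (h2 : ∀ b : K, ∃ a ∈ W, ActsSL M.e U D a (sg j0 (up b))) {r : G} (hr : r ∈ P) {x : G} (hx : x ∈ U) (hx1 : x ≠ 1)
    (hxs : ∀ t ∈ S, ∀ a ∈ W, t * a * t⁻¹ * x = x * (t * a * t⁻¹)) (hxr : ∀ a ∈ W, r * a * r⁻¹ * x = x * (r * a * r⁻¹))
    {l a0 : G} (hl : l ∈ U) (ha0 : a0 ∈ W) (hxl : x = r * a0 * r⁻¹ * l * (r * a0 * r⁻¹)⁻¹ * l⁻¹)
    (hq : ∀ v ∈ U, ∀ a ∈ W, r * a * r⁻¹ * (r * a * r⁻¹ * v * (r * a * r⁻¹)⁻¹ * v⁻¹) =
      r * a * r⁻¹ * v * (r * a * r⁻¹)⁻¹ * v⁻¹ * (r * a * r⁻¹)) :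
    ∀ a ∈ W, ∃ t ∈ S, ∃ a' ∈ W, ∀ v ∈ U, (t * a' * t⁻¹)⁻¹ * (r * a * r⁻¹) * v = v * ((t * a' * t⁻¹)⁻¹ * (r * a * r⁻¹)) := by
  classical
  have hWP : ∀ a ∈ W, a ∈ P := fun a ha => h.SP' (hWS ha)
  obtain ⟨σ, hσ⟩ := M.perm r hr
  set j1 := σ j0 with hj1
  have hact : ∀ a ∈ W, ∃ A', ActsSL M.e U D (r * a * r⁻¹) (sg j1 A') := by
    intro a ha
    obtain ⟨b, hb⟩ := h1 a ha
    exact conj_sg' h hσ hr (hWP a ha) hb
  -- `x` is in the block `j1` and not in `D`
  obtain ⟨A0, hA0⟩ := hact a0 ha0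
  have hsP : r * a0 * r⁻¹ ∈ P := mul_mem (mul_mem hr (hWP a0 ha0)) (inv_mem hr)
  have hex : ∀ i, M.e x i = ap (sg j1 A0 i) (M.e l i) + M.e l i := fun i => by
    rw [hxl]; exact e_comm h hsP hA0 hl i
  have hη : M.e x j1 ≠ 0 := by
    intro h0
    rw [hex j1, sg_self] at h0
    have h3 := comm_of_fix h hsP hA0 (fun v hv => hq v hv a0 ha0) hl (eq_of_add2 h0)
    apply hx1
    rw [hxl, h3]
    group
  -- an element of `S` which moves the block `j0` to `j1`
  obtain ⟨t, ht, htj⟩ := M.trans j0 j1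
  have htP : t ∈ P := h.SP' ht
  obtain ⟨τ, hτ⟩ := M.perm t htP
  have hτj : τ j0 = j1 := by
    by_contra hne
    obtain ⟨v, hv, hvj, hvl⟩ := Nb.exists_single M j0 ![1, 0]
    have h3 := (hτ v hv (τ.symm j1)).2 (hvl _ fun h4 => hne (by rw [← h4, τ.apply_symm_apply]))
    rw [τ.apply_symm_apply] at h3
    have h4 := (htj v hv).1 h3
    rw [hvj] at h4
    exact one_ne_zero (congrFun h4 0)
  have hUt : MulAut.conj t • U = U := NOne.Flat.conj_eq_of_norm (h.VP' htP)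
  have hofft : OffM U (MulAut.conj t • W) := by
    have h3 := offM_conj hoff t
    rwa [hUt] at h3
  have hWt : MulAut.conj t • W ≤ S := by
    have h3 := conj_le_iff (g := t).2 hWS
    rwa [NoFF.Basic.conj_self ht] at h3
  obtain ⟨I, -, h3, h4⟩ := exists_blocks h hWt hofft
  have hj1I : j1 ∈ I := by
    by_contra hnot
    obtain ⟨a, ha, haA⟩ := h2 1
    obtain ⟨A', hA'⟩ := conj_sg' h hτ htP (hWP a ha) haA
    rw [hτj] at hA'
    have hm : t * a * t⁻¹ ∈ MulAut.conj t • W := NOne.Frame.conj_mem ha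
    obtain ⟨b, hb, hbA⟩ := h3 _ hm
    have h5 := acts_inj h hbA hA'
    have h6 : (fun i => up (b i)) = (1 : Fin k → Matrix.SpecialLinearGroup (Fin 2) K) := by
      funext i
      by_cases hi : i = j1
      · rw [hi, hb j1 hnot, up_zero]; rfl
      · have h7 := congrFun h5 i
        rw [sg_ne hi] at h7
        exact h7
    rw [h6] at hbA
    -- then `a` centralises `U`
    obtain ⟨v, hv, hvj, -⟩ := Nb.exists_single M j0 ![0, 1]
    have h7 := h.comm_of_one (mul_mem (mul_mem htP (hWP a ha)) (inv_mem htP)) hbA (h.memV htP hv)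
    have h8 : a * v * a⁻¹ = v := by
      have e1 : a * v * a⁻¹ = t⁻¹ * (t * a * t⁻¹ * (t * v * t⁻¹)) * (t * a⁻¹) := by group
      rw [e1, h7]
      group
    have h9 := congrFun (haA.1 v hv j0) 0
    rw [h8, sg_self, ap_up_0, hvj] at h9
    simp at h9
  -- the elements of `W^t` which act as `up β` on the block `j1`
  have hful : ∀ β : K, ∃ a' ∈ W, ActsSL M.e U D (t * a' * t⁻¹) (sg j1 (up β)) := by
    intro β
    obtain ⟨y, hy, hyA⟩ := h4 (Function.update 0 j1 β) (fun l hl => by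
      rw [Function.update_of_ne (fun h13 => hl (by rw [h13]; exact hj1I))]; rfl)
    have e1 : (fun i => up (Function.update (0 : Fin k → K) j1 β i)) = sg j1 (up β) := by
      funext i
      by_cases hij : i = j1
      · rw [hij, Function.update_self, ThmB.sg_self]
      · rw [Function.update_of_ne hij, ThmB.sg_ne hij, Pi.zero_apply, up_zero]
    rw [e1] at hyA
    refine ⟨t⁻¹ * y * t, mem_conj.1 hy, ?_⟩
    have e2 : t * (t⁻¹ * y * t) * t⁻¹ = y := by group
    rwa [e2]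
  have hη1 : M.e x j1 1 = 0 := by
    obtain ⟨a', ha', hA'⟩ := hful 1
    have h5 := hxs t ht a' ha'
    have h6 : t * a' * t⁻¹ * x * (t * a' * t⁻¹)⁻¹ = x := by rw [h5, mul_inv_cancel_right]
    have h7 := congrFun (hA'.1 x hx j1) 0
    rw [h6, sg_self, ap_up_0, one_mul] at h7
    exact left_eq_add.1 h7
  have hη0 : M.e x j1 0 ≠ 0 := fun h0 => hη (ext2 h0 hη1)
  intro a ha
  obtain ⟨A', hA'⟩ := hact a ha
  have h5 : ap A' (M.e x j1) = M.e x j1 := by
    have h6 : r * a * r⁻¹ * x * (r * a * r⁻¹)⁻¹ = x := by rw [hxr a ha, mul_inv_cancel_right]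
    have h7 := hA'.1 x hx j1
    rw [h6, sg_self] at h7
    exact h7.symm
  obtain ⟨β, rfl⟩ := exists_up_of_fix h5 hη0 hη1
  obtain ⟨a', ha', hB⟩ := hful β
  refine ⟨t, ht, a', ha', fun v hv => ?_⟩
  have htaP : t * a' * t⁻¹ ∈ P := mul_mem (mul_mem htP (hWP a' ha')) (inv_mem htP)
  have hraP : r * a * r⁻¹ ∈ P := mul_mem (mul_mem hr (hWP a ha)) (inv_mem hr)
  have h6 := h.acts_mul hraP (h.acts_inv htaP hB) hA'
  rw [inv_mul_cancel] at h6
  exact h.comm_of_one (mul_mem (inv_mem htaP) hraP) h6 hv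

end Cfsg.Agent.Omega.NO3S.SOne.KeyLe
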