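import Cfsg.Agent.Omega.NO3S.SOne.KeyLe.Pass
import Cfsg.Agent.Omega.NO3S.SOne.KeyLe.Nat

/-!
# GammaFF, (S1): the KEY with radicals, part 3: the two configurations

`KF S P R V F`; `BH V F B`, `I = V ∩ B = V_R F`, `W` acts on one block of the natural module `V_R`, as a full root group.

* `KF.false_far` : if the lines `V_R^(rp)`, `r ∈ R`, `p ∈ P`, lie in `I`, then `⟨Z^Y⟩ ≤ E`;
* `KF.false_near` : `|V : E| < |K|`, `V_P^x ≤ I` for `x ∈ R`, and `V_R^(gp) ≰ E`, `B ≤ S^(gp)` for some `g ∈ R`, `p ∈ P` is impossible.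
-/

set_option autoImplicit false
set_option linter.unusedSectionVars false

namespace Cfsg.Agent.Omega.NO3S.SOne.KeyLe

open Subgroup Cfsg Cfsg.Agent.ZN Cfsg.Agent.Omega.MinPar
open Cfsg.Agent.Omega.NOne.Flat (EE NN conj_eq_of_norm conj_centralizer WW_conj EE_conj o2_conj)
open Cfsg.Agent.Omega.NOne.NearFF (c c_def)
open Cfsg.Agent.Omega.NoFF.Basic (conj_conj mem_conj conj_le_iff conj_le_centralizer comm_symm V_le Z_le_V conj_V_mul)
open Cfsg.Agent.Omega.NOThreeL.Low.Key (BH)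
open Cfsg.Agent.Omega.FFThm Cfsg.Agent.Omega.NatPair Cfsg.Agent.Lib.SL2Mat
open Cfsg.Agent.Omega.NO3S.ThmB (Nb sg sg_self sg_ne ap_up_0 ap_up_1 ap_zr)
open Cfsg.Agent.Omega.NO3S.KeyRad
open Cfsg.Agent.Omega.FrameFF (cv)
open scoped Pointwise

universe u

variable {G : Type u} [Group G] [Finite G] {S : Sylow 2 G} {P R V F B : Subgroup G}

/-- `[E, W, W] = 1` -/
theorem quadE (h : NOne.Flat.Hyp V F) {e w w' : G} (he : e ∈ EE V F) (hw : w ∈ NOne.Flat.WW V F)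
    (hw' : w' ∈ NOne.Flat.WW V F) : w' * (w * e * w⁻¹ * e⁻¹) = w * e * w⁻¹ * e⁻¹ * w' := by
  have h1 : w * e * w⁻¹ * e⁻¹ ∈ F := by
    have h2 := inv_mem (h.comm_EW he hw)
    have e1 : (c e w)⁻¹ = w * e * w⁻¹ * e⁻¹ := by rw [c]; group
    rwa [e1] at h2
  exact (NOne.Flat.Hyp.F_comm h1 (NOne.Flat.Hyp.W_le_X hw')).symm

/-- conjugates of commuting elements -/
theorem comm_conj' {y a b : G} (h : y⁻¹ * a * y * (y⁻¹ * b * y) = y⁻¹ * b * y * (y⁻¹ * a * y)) : a * b = b * a := by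
  calc a * b = y * (y⁻¹ * a * y * (y⁻¹ * b * y)) * y⁻¹ := by group
    _ = y * (y⁻¹ * b * y * (y⁻¹ * a * y)) * y⁻¹ := by rw [h]
    _ = b * a := by group

/-- `[L^y, W, W] = 1`, conjugated -/
theorem quadE_conj (h : NOne.Flat.Hyp V F) {y : G} {L : Subgroup G} (hL : MulAut.conj y⁻¹ • L ≤ EE V F) {v a a' : G}
    (hv : v ∈ L) (ha : a ∈ MulAut.conj y • NOne.Flat.WW V F) (ha' : a' ∈ MulAut.conj y • NOne.Flat.WW V F) :
    a' * (a * v * a⁻¹ * v⁻¹) = a * v * a⁻¹ * v⁻¹ * a' := by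
  rw [mem_conj] at ha ha'
  have hv' : y⁻¹ * v * y ∈ EE V F := hL (by
    rw [mem_conj]
    have e : y⁻¹⁻¹ * (y⁻¹ * v * y) * y⁻¹ = v := by group
    rwa [e])
  have h1 := quadE h hv' ha ha'
  apply comm_conj' (y := y)
  have e : y⁻¹ * (a * v * a⁻¹ * v⁻¹) * y = y⁻¹ * a * y * (y⁻¹ * v * y) * (y⁻¹ * a * y)⁻¹ * (y⁻¹ * v * y)⁻¹ := by group
  rw [e]
  exact h1

namespace KF

variable (h : KF S P R V F)
include h

theorem YV : P ⊔ R ≤ normalizer (V : Set G) := sup_le h.PV h.RV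

theorem o2P_le_S : o2 P ≤ (S : Subgroup G) := by rw [← h.o2P_eq]; exact inf_le_left

/-- `V_R`-commutators of elements of `I = V_R F` -/
theorem c_mem (hLF : zl (S : Subgroup G) R ⊔ F = V ⊓ B) {v w : G} (hv : v ∈ V ⊓ B) (hw : w ∈ NOne.Flat.WW V F) :
    c v w ∈ zl (S : Subgroup G) R := by
  rw [← hLF] at hv
  have hF : F ≤ normalizer (zl (S : Subgroup G) R : Set G) := by
    have h11 : F ≤ centralizer (zl (S : Subgroup G) R : Set G) := fun f hf => mem_centralizer_iff.2 fun x hx =>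
      h.hyp.V_comm (h.L_le_V hx) (h.hyp.F_le_V hf)
    exact h11.trans (centralizer_le_normalizer _)
  obtain ⟨l, hl, f, hf, rfl⟩ := Pas.mem_sup_of_norm hF hv
  have h12 : f * w = w * f := NOne.Flat.Hyp.F_comm hf (NOne.Flat.Hyp.W_le_X hw)
  have e : c (l * f) w = l * (w * l⁻¹ * w⁻¹) := by
    rw [c_def]
    calc l * f * w * (l * f)⁻¹ * w⁻¹ = l * (f * w) * f⁻¹ * l⁻¹ * w⁻¹ := by group
      _ = l * (w * f) * f⁻¹ * l⁻¹ * w⁻¹ := by rw [h12]
      _ = _ := by group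
  rw [e]
  exact mul_mem hl (h.RL (h.WR hw) (inv_mem hl))

/-- **distance at least 3** -/
theorem false_far (hLF : zl (S : Subgroup G) R ⊔ F = V ⊓ B)
    (hl2 : ∀ r ∈ R, ∀ p ∈ P, MulAut.conj (r * p) • zl (S : Subgroup G) R ≤ V ⊓ B)
    (hE : ∀ p ∈ P, MulAut.conj p • zl (S : Subgroup G) R ≤ EE V F) : zl (S : Subgroup G) (P ⊔ R) ≤ EE V F := by
  set U := NoFF.Basic.V (zl (S : Subgroup G) R) P with hU
  have hLU : zl (S : Subgroup G) R ≤ U := by
    have h1 := Z_le_V (Z := zl (S : Subgroup G) R) (one_mem P)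
    rwa [map_one, one_smul] at h1
  have hPU : P ≤ normalizer (U : Set G) := by
    have h1 : ∀ p ∈ P, ∀ u ∈ U, p * u * p⁻¹ ∈ U := by
      intro p hp u hu
      have h2 := conj_V_mul (Z := zl (S : Subgroup G) R) (g := 1) hp
      rw [one_mul, map_one, one_smul] at h2
      rw [hU, ← h2, mem_conj]
      have e : p⁻¹ * (p * u * p⁻¹) * p = u := by group
      rwa [e]
    intro p hp
    refine mem_normalizer_iff.2 fun u => ⟨h1 p hp u, fun hu => ?_⟩
    have h2 := h1 p⁻¹ (inv_mem hp) _ hu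
    have e : p⁻¹ * (p * u * p⁻¹) * p⁻¹⁻¹ = u := by group
    rwa [e] at h2
  have hRU : R ≤ normalizer (U : Set G) := by
    rw [← h.L0_sup]
    refine sup_le (V_le fun r hr => ?_) (h.SP.trans hPU)
    have h1 : ∀ y ∈ MulAut.conj r • NOne.Flat.WW V F, ∀ u ∈ U, y * u * y⁻¹ ∈ U := by
      intro y hy u hu
      have hle : U ≤ U.comap (MulAut.conj y).toMonoidHom := by
        refine V_le fun p hp => ?_
        intro v hv
        rw [mem_comap]
        change y * v * y⁻¹ ∈ U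
        have hv' : r⁻¹ * v * r ∈ V ⊓ B := by
          refine hl2 r⁻¹ (inv_mem hr) p hp ?_
          rw [← conj_conj, mem_conj]
          have e : r⁻¹⁻¹ * (r⁻¹ * v * r) * r⁻¹ = v := by group
          rwa [e]
        have h2 := h.RL hr (h.c_mem hLF hv' (mem_conj.1 hy))
        have e : y * v * y⁻¹ = (r * c (r⁻¹ * v * r) (r⁻¹ * y * r) * r⁻¹)⁻¹ * v := by rw [c_def]; group
        rw [e]
        exact mul_mem (inv_mem (hLU h2)) (Z_le_V hp hv)
      exact hle hu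
    intro y hy
    refine mem_normalizer_iff.2 fun u => ⟨h1 y hy u, fun hu => ?_⟩
    have h2 := h1 y⁻¹ (inv_mem hy) _ hu
    have e : y⁻¹ * (y * u * y⁻¹) * y⁻¹⁻¹ = u := by group
    rwa [e] at h2
  have h3 : zl (S : Subgroup G) (P ⊔ R) ≤ U :=
    MinSimple.VModule.zl_le ((MinSimple.VModule.zc_le_zl _ _).trans hLU) (sup_le hPU hRU)
  exact h3.trans (V_le fun p hp => hE p hp)

/-- a conjugate `W^y ≤ S` centralises the elements `(ξ, 0)` of one block -/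
theorem cent_elem {K : Type} [Field K] [Finite K] [CharP K 2] {k : ℕ}
    (M : NatKM K (S : Subgroup G) R (zl (S : Subgroup G) R) (cv (S : Subgroup G) R) k)
    (hL0 : ∀ y ∈ P ⊔ R, NOne.Flat.WW V F ≤ MulAut.conj y • (S : Subgroup G) →
      MulAut.conj y • zl (S : Subgroup G) R ≤ EE V F) {x : G} (hx : x ∈ zl (S : Subgroup G) R)
    {i : Fin k} (hxi : M.e x i 1 = 0) (hxl : ∀ l, l ≠ i → M.e x l = 0) {y : G} (hy : y ∈ P ⊔ R)
    (hyS : MulAut.conj y • NOne.Flat.WW V F ≤ (S : Subgroup G)) {a : G} (ha : a ∈ MulAut.conj y • NOne.Flat.WW V F) :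
    a * x = x * a := by
  have nb := ThmB.Inst.nb h.hc h.hR M
  by_cases hm : MulAut.conj y • NOne.Flat.WW V F ≤ centralizer (zl (S : Subgroup G) R : Set G)
  · exact (mem_centralizer_iff.1 (hm ha) x hx).symm
  · have hE := hL0 y⁻¹ (inv_mem hy) (by rw [le_conj_iff, inv_inv]; exact hyS)
    have hmv : ¬ NOne.Flat.WW V F ≤ centralizer ((MulAut.conj y⁻¹ • zl (S : Subgroup G) R : Subgroup G) : Set G) := by
      intro h1
      apply hm
      have h2 := conj_le_centralizer (g := y) h1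
      rwa [conj_smul_inv] at h2
    have h1 := offM_conj (offM_of_le h.hyp hE hmv) y
    rw [conj_smul_inv] at h1
    exact cent_of_off nb hyS h1 (fun v hv a ha a' ha' => quadE_conj h.hyp hE hv ha ha') hx hxi hxl ha

/-- **distance 2** -/
theorem false_near {K : Type} [Field K] [Finite K] [CharP K 2] {k : ℕ}
    (M : NatKM K (S : Subgroup G) R (zl (S : Subgroup G) R) (cv (S : Subgroup G) R) k)
    (hlt : (EE V F).relIndex V < Nat.card K) (bh : BH V F B) (hsq : ∀ b ∈ B, b ^ 2 = 1)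
    (hLF : zl (S : Subgroup G) R ⊔ F = V ⊓ B) (hi : 2 < F.relIndex (V ⊓ B)) {j0 : Fin k}
    (h1 : ∀ a ∈ NOne.Flat.WW V F, ∃ b : K, ActsSL M.e (zl (S : Subgroup G) R) (cv (S : Subgroup G) R) a (sg j0 (up b)))
    (h2 : ∀ b : K, ∃ a ∈ NOne.Flat.WW V F, ActsSL M.e (zl (S : Subgroup G) R) (cv (S : Subgroup G) R) a (sg j0 (up b)))
    (hL0 : ∀ y ∈ P ⊔ R, NOne.Flat.WW V F ≤ MulAut.conj y • (S : Subgroup G) →
      MulAut.conj y • zl (S : Subgroup G) R ≤ EE V F)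
    (hPl : ∀ x ∈ R, MulAut.conj x • zl (S : Subgroup G) P ≤ V ⊓ B)
    {g p : G} (hg : g ∈ R) (hp : p ∈ P) (hBS : B ≤ MulAut.conj (g * p) • (S : Subgroup G))
    (hbad : ¬ MulAut.conj (g * p) • zl (S : Subgroup G) R ≤ EE V F)
    (hcz : zc (S : Subgroup G) ⊓ centralizer (R : Set G) ≠ ⊥) : False := by
  classical
  have nb := ThmB.Inst.nb h.hc h.hR M
  have hgp : g * p ∈ P ⊔ R := mul_mem ((le_sup_right : R ≤ P ⊔ R) hg) ((le_sup_left : P ≤ P ⊔ R) hp)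
  have hy' : (g * p)⁻¹ ∈ normalizer (V : Set G) := h.YV (inv_mem hgp)
  have hg' : g⁻¹ ∈ normalizer (V : Set G) := h.RV (inv_mem hg)
  -- the groups at the bad chamber
  have bh2 := bh.conj hy'
  have eE2 : EE V (MulAut.conj (g * p)⁻¹ • F) = MulAut.conj (g * p)⁻¹ • EE V F := (EE_conj hy').symm
  have eV2 : MulAut.conj (g * p)⁻¹ • V = V := conj_eq_of_norm hy'
  have eI2 : V ⊓ MulAut.conj (g * p)⁻¹ • B = MulAut.conj (g * p)⁻¹ • (V ⊓ B) := by rw [Subgroup.smul_inf, eV2]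
  have hi2 : 2 < (MulAut.conj (g * p)⁻¹ • F).relIndex (V ⊓ MulAut.conj (g * p)⁻¹ • B) := by
    rw [eI2, relIndex_pointwise_smul]; exact hi
  have hI2 : ¬ V ⊓ MulAut.conj (g * p)⁻¹ • B ≤ MulAut.conj (g * p)⁻¹ • F := by
    intro h3
    rw [relIndex_eq_one.2 h3] at hi2
    omega
  have hBS2 : MulAut.conj (g * p)⁻¹ • B ≤ (S : Subgroup G) := le_conj_iff.1 hBS
  have hsq2 : ∀ b ∈ MulAut.conj (g * p)⁻¹ • B, b ^ 2 = 1 := by
    intro b hb
    rw [mem_conj, inv_inv] at hb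
    have h3 := hsq _ hb
    have e : b ^ 2 = (g * p)⁻¹ * (g * p * b * (g * p)⁻¹) ^ 2 * (g * p) := by rw [pow_two, pow_two]; group
    rw [e, h3]
    group
  have hUE2 : ¬ zl (S : Subgroup G) R ≤ EE V (MulAut.conj (g * p)⁻¹ • F) := by
    intro h3
    apply hbad
    rw [eE2, le_conj_iff, inv_inv] at h3
    exact h3
  have q := qb' bh2 hsq2 hBS2 h.L_le_V hi2
  -- the bad block
  have hZE : zc (S : Subgroup G) ≤ EE V (MulAut.conj (g * p)⁻¹ • F) := fun z hz =>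
    mem_E_of_comm bh2 hI2 (h.ZV hz) fun b hb => (ChoiceBase.mem_zc.1 hz).2.2 b (hBS2 hb)
  obtain ⟨i, hbi⟩ := exists_blk nb (MinSimple.VModule.zc_le_zl (S : Subgroup G) R)
    (fun z hz s hs => (ChoiceBase.mem_zc.1 hz).2.2 s hs)
    (fun X hX hn => MinSimple.VModule.zl_le hX hn) hZE hUE2
  have hlt2 : (EE V (MulAut.conj (g * p)⁻¹ • F)).relIndex V < Nat.card K := by
    have e : (EE V (MulAut.conj (g * p)⁻¹ • F)).relIndex V = (EE V F).relIndex V := by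
      conv_lhs => rw [eE2, ← eV2]
      rw [relIndex_pointwise_smul, eV2]
    rw [e]; exact hlt
  obtain ⟨w, hwX, hwE, hw1⟩ := exists_mem_inf nb h.L_le_V hlt2 i
  have hwL := blk_le nb i hwX
  obtain ⟨b, hb, hbN⟩ := bh2.exists_not_mem_NN hI2
  obtain ⟨β, hβ⟩ := exists_up nb q hbi hb
  have hbR : b ∈ R := h.SR (hBS2 hb)
  have hβ0 : β ≠ 0 := by
    intro h0
    obtain ⟨w0, hw0, hw0E⟩ := SetLike.not_le_iff_exists.1 hbi
    have h3 := eq_lift nb q (A := up β) hbR (one_mem R) hβ (fun v hv => by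
      rw [one_mul, inv_one, mul_one, h0, up_zero, NatPair.ap_one]) hw0
    rw [one_mul, inv_one, mul_one] at h3
    refine hbN (bh2.mem_NN_of_c (h.L_le_V (blk_le nb i hw0)) hw0E hb ?_)
    have h4 : c w0 b = 1 := NOThreeL.Low.Key.c_eq_one' (mul_inv_eq_iff_eq_mul.1 h3).symm
    rw [h4]
    exact one_mem _
  -- the element `x₂`
  have hx2L : c w b ∈ zl (S : Subgroup G) R := by
    have e : c w b = (b * w * b⁻¹ * w⁻¹)⁻¹ := by rw [c]; group
    rw [e]
    exact inv_mem (mul_mem (h.RL hbR hwL) (inv_mem hwL))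
  have hex2 : M.e (c w b) = M.e (b * w * b⁻¹) + M.e w := by
    have e : c w b = (b * w * b⁻¹ * w⁻¹)⁻¹ := by rw [c]; group
    rw [e, nb.e_inv (mul_mem (h.RL hbR hwL) (inv_mem hwL)), nb.e_div (h.RL hbR hwL) hwL]
  have hx20 : M.e (c w b) i 0 = β * M.e w i 1 := by
    rw [hex2, Pi.add_apply, Pi.add_apply, hβ w hwL, ap_up_0, add_right_comm, CharTwo.add_self_eq_zero, zero_add]
  have hx21 : M.e (c w b) i 1 = 0 := by
    rw [hex2, Pi.add_apply, Pi.add_apply, hβ w hwL, ap_up_1]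
    exact CharTwo.add_self_eq_zero _
  have hx2l : ∀ l, l ≠ i → M.e (c w b) l = 0 := by
    intro l hl
    obtain ⟨σ, hσ⟩ := M.perm b hbR
    have hσi := fix nb q hbi hb hσ
    have h3 := (hσ w hwL (σ.symm l)).2 (e_blk nb (fun h4 => hl (by rw [← hσi, ← h4, σ.apply_symm_apply])) hwX)
    rw [σ.apply_symm_apply] at h3
    rw [hex2, Pi.add_apply, h3, e_blk nb hl hwX, add_zero]
  have hx2n : c w b ≠ 1 := by
    intro h3
    rw [h3, Nb.e_one (M := M)] at hx20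
    exact mul_ne_zero hβ0 hw1 hx20.symm
  have hcent := fun {y : G} (hy : y ∈ P ⊔ R) (hyS : MulAut.conj y • NOne.Flat.WW V F ≤ (S : Subgroup G)) {a : G}
    (ha : a ∈ MulAut.conj y • NOne.Flat.WW V F) => h.cent_elem M hL0 hx2L hx21 hx2l hy hyS ha
  -- the groups at the chamber `g`
  have bh1 := bh.conj hg'
  have eE1 : EE V (MulAut.conj g⁻¹ • F) = MulAut.conj g⁻¹ • EE V F := (EE_conj hg').symm
  have eV1 : MulAut.conj g⁻¹ • V = V := conj_eq_of_norm hg'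
  have eL1 : MulAut.conj g⁻¹ • zl (S : Subgroup G) R = zl (S : Subgroup G) R :=
    conj_eq_of_norm (MinSimple.VModule.le_normalizer_zl _ _ (inv_mem hg))
  have eI1 : V ⊓ MulAut.conj g⁻¹ • B = zl (S : Subgroup G) R ⊔ MulAut.conj g⁻¹ • F := by
    have h3 : V ⊓ MulAut.conj g⁻¹ • B = MulAut.conj g⁻¹ • (V ⊓ B) := by rw [Subgroup.smul_inf, eV1]
    rw [h3, ← hLF, Subgroup.smul_sup, eL1]
  have eW1 : NOne.Flat.WW V (MulAut.conj g⁻¹ • F) = MulAut.conj g⁻¹ • NOne.Flat.WW V F := (WW_conj hg').symm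
  have he1 : p * w * p⁻¹ ∈ EE V (MulAut.conj g⁻¹ • F) := by
    rw [eE2, mem_conj, inv_inv] at hwE
    rw [eE1, mem_conj, inv_inv]
    have e : g * (p * w * p⁻¹) * g⁻¹ = g * p * w * (g * p)⁻¹ := by group
    rwa [e]
  have hb1 : p * b * p⁻¹ ∈ MulAut.conj g⁻¹ • B := by
    rw [mem_conj, inv_inv] at hb
    rw [mem_conj, inv_inv]
    have e : g * (p * b * p⁻¹) * g⁻¹ = g * p * b * (g * p)⁻¹ := by group
    rwa [e]
  obtain ⟨w0, hw0, hw0E⟩ := bh1.toHyp.exists_not_mem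
  have hr0 := bh1.c_memI hw0 hb1
  have hxc : c (p * w * p⁻¹) (p * b * p⁻¹) = p * c w b * p⁻¹ := by rw [c, c]; group
  obtain ⟨s, hs, hsx⟩ := (root_of bh1 hw0 hw0E hr0 hb1 (by rw [inv_mul_cancel]; exact one_mem _)
    (p * c w b * p⁻¹)).2 ⟨_, he1, hxc⟩
  set x := p * c w b * p⁻¹ with hxd
  set r0 := c w0 (p * b * p⁻¹) with hr0d
  -- `x = [l, s]` with `l ∈ V_R`
  have hr0' := hr0
  rw [eI1] at hr0'
  have hF1 : MulAut.conj g⁻¹ • F ≤ normalizer (zl (S : Subgroup G) R : Set G) := by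
    have h11 : MulAut.conj g⁻¹ • F ≤ centralizer (zl (S : Subgroup G) R : Set G) := fun f hf =>
      mem_centralizer_iff.2 fun x hx => h.hyp.V_comm (h.L_le_V hx) (bh1.toHyp.F_le_V hf)
    exact h11.trans (centralizer_le_normalizer _)
  obtain ⟨l, hl, f, hf, hlf⟩ := Pas.mem_sup_of_norm hF1 hr0'
  have hxl : x = l * s * l⁻¹ * s⁻¹ := by
    have h12 : f * s = s * f := NOne.Flat.Hyp.F_comm hf (NOne.Flat.Hyp.W_le_X hs)
    rw [← hsx, ← hlf, c_def]
    calc l * f * s * (l * f)⁻¹ * s⁻¹ = l * (f * s) * f⁻¹ * l⁻¹ * s⁻¹ := by group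
      _ = l * (s * f) * f⁻¹ * l⁻¹ * s⁻¹ := by rw [h12]
      _ = _ := by group
  have hs1 : s ∈ MulAut.conj g⁻¹ • NOne.Flat.WW V F := by rw [← eW1]; exact hs
  have hsW : g * s * g⁻¹ ∈ NOne.Flat.WW V F := by
    rw [mem_conj, inv_inv] at hs1
    exact hs1
  have hsR : s ∈ R := by
    have h3 := mul_mem (mul_mem (inv_mem hg) (h.WR hsW)) hg
    have e : g⁻¹ * (g * s * g⁻¹) * g = s := by group
    rwa [e] at h3
  have hxL : x ∈ zl (S : Subgroup G) R := by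
    have e : l * s * l⁻¹ * s⁻¹ = l * (s * l⁻¹ * s⁻¹) := by group
    rw [hxl, e]
    exact mul_mem hl (h.RL hsR (inv_mem hl))
  have hx1 : x ≠ 1 := by
    intro h3
    apply hx2n
    have e : c w b = p⁻¹ * x * p := by rw [hxd]; group
    rw [e, h3]
    group
  -- passivity
  have hWP : NOne.Flat.WW V F ≤ o2 P := by
    have h3 := h.pas 1 (one_mem _) (by rw [map_one, one_smul]; exact h.WS)
    rwa [map_one, one_smul] at h3
  have hxs : ∀ t ∈ (S : Subgroup G), ∀ a ∈ NOne.Flat.WW V F, t * a * t⁻¹ * x = x * (t * a * t⁻¹) := by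
    intro t ht a ha
    have hpt : p⁻¹ * t ∈ P := mul_mem (inv_mem hp) (h.SP ht)
    have h3 : MulAut.conj (p⁻¹ * t) • NOne.Flat.WW V F ≤ (S : Subgroup G) := by
      have h4 := conj_le_iff (g := p⁻¹ * t).2 hWP
      rw [conj_eq_of_norm (MinSimple.VModule.le_normalizer_o2 P hpt)] at h4
      exact h4.trans h.o2P_le_S
    have h4 : p⁻¹ * (t * a * t⁻¹) * p ∈ MulAut.conj (p⁻¹ * t) • NOne.Flat.WW V F := by
      rw [mem_conj]
      have e : (p⁻¹ * t)⁻¹ * (p⁻¹ * (t * a * t⁻¹) * p) * (p⁻¹ * t) = a := by group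
      rwa [e]
    have h5 := hcent ((le_sup_left : P ≤ P ⊔ R) hpt) h3 h4
    apply comm_conj' (y := p)
    have e : p⁻¹ * x * p = c w b := by rw [hxd]; group
    rw [e]
    exact h5
  -- `W'` centralises `x`
  have hxr : ∀ a ∈ NOne.Flat.WW V F, g⁻¹ * a * g⁻¹⁻¹ * x = x * (g⁻¹ * a * g⁻¹⁻¹) := by
    intro a ha
    have h3 : g⁻¹ * a * g⁻¹⁻¹ ∈ NOne.Flat.WW V (MulAut.conj g⁻¹ • F) := by
      rw [eW1]
      exact NOne.Frame.conj_mem ha
    have h4 : x ∈ MulAut.conj g⁻¹ • F := by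
      rw [← hsx]
      exact bh1.toHyp.comm_EW (bh1.I_le_E hr0) hs
    exact (NOne.Flat.Hyp.F_comm h4 (NOne.Flat.Hyp.W_le_X h3)).symm
  -- `W` on `V_R`
  have hLE : zl (S : Subgroup G) R ≤ EE V F := by
    have h3 := hL0 1 (one_mem _) (by rw [map_one, one_smul]; exact h.WS)
    rwa [map_one, one_smul] at h3
  have hmv : ¬ NOne.Flat.WW V F ≤ centralizer (zl (S : Subgroup G) R : Set G) := fun h3 => h.act (by
    rw [← h.o2R_eq]; exact le_inf h.WS h3)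
  have hoff := offM_of_le h.hyp hLE hmv
  have hres := lift_of_fixed nb h.WS hoff h1 h2 (inv_mem hg) hxL hx1 hxs hxr hl hsW (by
      have e : g⁻¹ * (g * s * g⁻¹) * g⁻¹⁻¹ = s := by group
      rw [e, ← nb.inv_eq hxL, hxl]
      group) (fun v hv a ha => quadE_conj h.hyp (y := g⁻¹) (L := zl (S : Subgroup G) R) (by
        rw [conj_eq_of_norm (MinSimple.VModule.le_normalizer_zl _ _ (inv_mem (inv_mem hg)))]
        exact hLE) hv (NOne.Frame.conj_mem ha) (NOne.Frame.conj_mem ha))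
  refine h.false_of (fun x hx v hv w hw => h.c_mem hLF (hPl x hx hv) hw) hg hp ?_ hcz ?_
  · intro w' hw'
    have hw'' := hw'
    rw [mem_conj] at hw''
    obtain ⟨t, ht, a', ha', h3⟩ := hres _ hw''
    have e : g⁻¹ * (g⁻¹⁻¹ * w' * g⁻¹) * g⁻¹⁻¹ = w' := by group
    rw [e] at h3
    refine ⟨t * a' * t⁻¹, mul_mem (mul_mem ht (h.WS ha')) (inv_mem ht),
      Z_le_V (h.SR ht) (NOne.Frame.conj_mem ha'), mem_centralizer_iff.2 fun v hv => (h3 v hv).symm⟩
  · intro h3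
    apply hbad
    rw [eE1, le_conj_iff, inv_inv, conj_conj] at h3
    exact h3

end KF

end Cfsg.Agent.Omega.NO3S.SOne.KeyLe
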